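import Mathlib
import Cfsg.Agent.Lib.Helper56.TC
import Cfsg.Agent.Lib.Helper56.TCFast
import Cfsg.Agent.Lib.Helper19.M11A.DA0
set_option autoImplicit false
set_option maxRecDepth 1000000

namespace Cfsg.Agent.Lib.Helper19.M11A

open Cfsg.Agent.Lib.Helper56.TC Cfsg.Agent.Lib.Helper56.TC.Tabs

noncomputable def nA : List (List ℕ) := [nA0]

noncomputable def fA : List (List ℕ) := [fA0]

/-- The certificate data. -/
noncomputable def T : Tabs where
  K := 3
  N := 720
  N' := 2373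
  INF := 2488
  fuel := 5
  inv := fun l => Tabs.nth 0 [0, 2, 1] l
  tg := slotFld2 nA 124 132 5444517870735015415413993718908291383295 3 31 39 4095 (fun _ => 0)
  rk := slotFld2 nA 124 132 5444517870735015415413993718908291383295 3 31 51 4095
    (fun x => Nat.rec (motive := fun _ => ℕ) 0 (fun _ _ => 2488) x)
  jc := slotFld2 nA 124 132 5444517870735015415413993718908291383295 3 31 63 127
    (fun x => Nat.rec (motive := fun _ => ℕ) 3 (fun _ _ => 0) x)
  dd := fldA nA 124 132 5444517870735015415413993718908291383295 0 31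
  dl := fldA nA 124 132 5444517870735015415413993718908291383295 5 3
  qj := fldA nA 124 132 5444517870735015415413993718908291383295 7 255
  mp := fldA nA 124 132 5444517870735015415413993718908291383295 15 4095
  mt := fldA nA 124 132 5444517870735015415413993718908291383295 27 4095
  tb := tbFld2 fA 277 59 576460752303423487 10 29 1023
  rels1 := [[1, 1, 1, 1],
    [0, 1, 0, 1, 0, 1, 0, 1, 0, 1, 0, 1, 0, 1, 0, 1, 0, 1, 0, 1, 0, 1],
    [0, 1, 1, 0, 1, 1, 0, 1, 1, 0, 1, 1, 0, 1, 1, 0, 1, 1],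
    [0, 1, 0, 1, 0, 2, 0, 1, 0, 1, 1, 0, 2, 0, 1, 0, 2, 0, 2]]
  subs := [[0, 1]]
  rx := [[1, 1, 1, 1],
    [0, 1, 0, 1, 0, 1, 0, 1, 0, 1, 0, 1, 0, 1, 0, 1, 0, 1, 0, 1, 0, 1],
    [0, 1, 1, 0, 1, 1, 0, 1, 1, 0, 1, 1, 0, 1, 1, 0, 1, 1],
    [0, 1, 0, 1, 0, 2, 0, 1, 0, 1, 1, 0, 2, 0, 1, 0, 2, 0, 2],
    [0, 1, 3]]
  RB := 23
  tpl := fldA fA 277 59 576460752303423487 0 3
  tdep := fldA fA 277 59 576460752303423487 2 31
  ol := fldA fA 277 59 576460752303423487 7 127
  oc := fldA fA 277 59 576460752303423487 14 1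
  op := fldA fA 277 59 576460752303423487 15 1023
  odep := fldA fA 277 59 576460752303423487 25 15
  orep := fun c => Tabs.nth 0 [0, 1, 3, 6, 8, 11, 14, 16, 19, 21, 29, 32, 35, 37, 40, 42, 45, 50, 55, 58, 69, 71, 73, 75, 79, 82, 85, 87, 91, 99, 101, 113, 115, 119, 121, 124, 126, 141, 149, 153, 161, 164, 172, 173, 176, 184, 187, 189, 193, 198, 227, 233, 238, 252, 255, 277, 280, 292, 294, 296, 314, 320, 332, 511, 583, 605, 658, 698, 716, 719] c

end Cfsg.Agent.Lib.Helper19.M11A
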